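import Groth.Prelude.Def_DCoh2
import Groth.Agent.Lib.AcyclicSum8.Sum
import Groth.Agent.Lib.CurveConn25.Discrete
import Groth.Agent.Lib.EtColim.Sections24
import Groth.Agent.Lib.EtPic3.Artinian
import Groth.Agent.Lib.EtStalk.Henselian
import Groth.Agent.Lib.EtStalk.IntegralUniv
import Groth.Agent.Lib.FieldH25.Transfer
import Groth.Agent.Lib.NormSep24.Irr
import Groth.Agent.Lib.StrictLim24.Section
import Mathlib.AlgebraicGeometry.Noetherian

/-!
# Abelian étale sheaves concentrated at closed points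
-/

set_option autoImplicit false
set_option backward.isDefEq.respectTransparency false
set_option backward.isDefEq.respectTransparency.types false

universe u

open CategoryTheory CategoryTheory.Limits Opposite AlgebraicGeometry CategoryTheory.Abelian

namespace Groth.Agent.Punctual24

open EtStalk

/-- The stalks vanish at geometric points over non-closed points. -/
def Punctual {X : Scheme.{u}} (P : EtCoh.Ab X) : Prop :=
  ∀ (Ω : Type u) [Field Ω] [IsSepClosed Ω] (ξ : Spec (CommRingCat.of Ω) ⟶ X),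
    ¬ IsClosed ({ξ default} : Set X) → IsZero ((EtCoh.stalk ξ).obj P)

/-- A coproduct with all but one term zero. -/
theorem isIso_inj_of_isZero {C : Type*} [Category C] [HasZeroMorphisms C] {ι : Type*} {f : ι → C}
    (c : Cofan f) (hc : IsColimit c) (a : ι) (h : ∀ b, b ≠ a → IsZero (f b)) : IsIso (c.inj a) := by
  classical
  let g : ∀ b, f b ⟶ f a := fun b => if e : b = a then eqToHom (congrArg f e) else 0
  refine ⟨⟨Cofan.IsColimit.desc hc g, by simp [g], Cofan.IsColimit.hom_ext hc _ _ fun b => ?_⟩⟩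
  by_cases e : b = a
  · subst e; simp [g]
  · exact (h b e).eq_of_src _ _

variable {X : Scheme.{u}} (P : EtCoh.Ab X)

/-- The complement of a closed point. -/
def compl (x : X) (hx : IsClosed ({x} : Set X)) : X.Opens := ⟨{x}ᶜ, hx.isOpen_compl⟩

/-- The sections supported at a closed point. -/
noncomputable abbrev suppAt (x : X) (hx : IsClosed ({x} : Set X)) : EtCoh.Ab X :=
  kernel ((EtCoh.pullPushAdj (compl x hx).ι).unit.app P)

variable (x : X) (hx : IsClosed ({x} : Set X))

theorem isZero_stalk_suppAt (Ω : Type u) [Field Ω] [IsSepClosed Ω] (ξ : Spec (CommRingCat.of Ω) ⟶ X)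
    (h : ξ default ≠ x) : IsZero ((EtCoh.stalk ξ).obj (suppAt P x hx)) := by
  obtain ⟨ζ, rfl⟩ := exists_lift_point_open (compl x hx).ι ξ (by
    rw [Scheme.Opens.range_ι]; exact h)
  haveI : PreservesFiniteLimits (EtCoh.stalk (ζ ≫ (compl x hx).ι)) := inferInstance
  have hm : Function.Injective ((EtCoh.stalk (ζ ≫ (compl x hx).ι)).map
      ((EtCoh.pullPushAdj (compl x hx).ι).unit.app P)) := fun p q e => by
    refine (ConcreteCategory.bijective_of_isIso (stalkPull (compl x hx).ι ζ P)).1 ?_
    rw [← unit_pushStalk, ConcreteCategory.comp_apply, ConcreteCategory.comp_apply]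
    exact congrArg _ e
  have hi : Function.Injective ((EtCoh.stalk (ζ ≫ (compl x hx).ι)).map
      (kernel.ι ((EtCoh.pullPushAdj (compl x hx).ι).unit.app P))) :=
    (mono_iff_stalk _).1 inferInstance Ω _
  refine @AddCommGrpCat.isZero_of_subsingleton _ (subsingleton_of_forall_eq 0 fun p => hi (hm ?_))
  rw [map_zero, map_zero, ← ConcreteCategory.comp_apply, ← Functor.map_comp, kernel.condition]
  exact ConcreteCategory.congr_hom ((EtCoh.stalk (ζ ≫ (compl x hx).ι)).map_zero _ _) p

variable {P} (hP : Punctual P)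
include hP

theorem finite_support [IsLocallyNoetherian X] (V : X.Etale) [CompactSpace V.left]
    (s : P.obj.obj (op V)) : (agree P s 0)ᶜ.Finite ∧ ∀ v ∈ (agree P s 0)ᶜ, IsClosed ({v} : Set V.left) := by
  haveI : AlgebraicGeometry.Etale V.hom := V.prop
  haveI : IsLocallyNoetherian ((𝟭 Scheme).obj V.left) := by
    haveI : IsLocallyNoetherian ((Functor.fromPUnit X).obj V.right) := ‹IsLocallyNoetherian X›
    exact LocallyOfFiniteType.isLocallyNoetherian V.hom
  haveI : IsLocallyNoetherian V.left := ‹_›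
  haveI : IsNoetherian V.left := { }
  have hclosed : ∀ v ∈ (agree P s 0)ᶜ, IsClosed ({v} : Set V.left) := by
    intro v hv
    have hcl : IsClosed ({V.hom v} : Set X) := by
      by_contra hn
      obtain ⟨φ, hφ⟩ := exists_fib V v
      have hz := AddCommGrpCat.subsingleton_of_isZero
        (hP _ (geomPt X (V.hom v)) (by rw [geomPt_default]; exact hn))
      exact hv (hφ ▸ (mem_agree_iff_germ P φ s 0).2 (hz.elim _ _))
    rw [← closure_eq_iff_isClosed]
    refine Set.Subset.antisymm (fun w hw => ?_) subset_closure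
    have hs : v ⤳ w := specializes_iff_mem_closure.2 hw
    have he : V.hom w = V.hom v := by
      have := (hs.map V.hom.continuous).mem_closure
      rwa [hcl.closure_eq] at this
    exact (NormSep24.eq_of_specializes_of_fibre (g := V.hom) hs he.symm).symm
  refine ⟨?_, hclosed⟩
  obtain ⟨T, hT, hTc, hTi, hTU⟩ :=
    TopologicalSpace.NoetherianSpace.exists_finite_set_isClosed_irreducible (isOpen_agree P s 0).isClosed_compl
  rw [hTU]
  refine hT.sUnion fun t ht => ?_
  have hg := (hTi t ht).isGenericPoint_genericPoint (hTc t ht)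
  have hmem : (hTi t ht).genericPoint ∈ (agree P s 0)ᶜ := by
    rw [hTU]; exact ⟨t, ht, hg.mem⟩
  rw [← hg.def, (hclosed _ hmem).closure_eq]
  exact Set.finite_singleton _

theorem surjective_stalk_suppAt [IsLocallyNoetherian X] (Ω : Type u) [Field Ω] [IsSepClosed Ω]
    (ξ : Spec (CommRingCat.of Ω) ⟶ X) (h : ξ default = x) :
    Function.Surjective ((EtCoh.stalk ξ).map
      (kernel.ι ((EtCoh.pullPushAdj (compl x hx).ι).unit.app P))) := by
  intro p
  obtain ⟨V₀, φ₀, s₀, rfl⟩ := germ_surjective ξ P p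
  obtain ⟨O, hO, hφO, -⟩ := exists_isAffineOpen_mem_and_subset (X := V₀.left) (x := fibPt φ₀) (U := ⊤) trivial
  haveI : IsAffine (EtSite.sub V₀ O).left := hO
  let V := EtSite.sub V₀ O
  let s : P.obj.obj (op V) := P.obj.map (EtSite.subHom V₀ O).op s₀
  obtain ⟨φ, hφ⟩ : ∃ φ : fib ξ V, (Scheme.pointSmallEtale ξ).fiber.map (EtSite.subHom V₀ O) φ = φ₀ := by
    let r : Spec (CommRingCat.of Ω) ⟶ V.left := IsOpenImmersion.lift O.ι φ₀.left (by
      rintro _ ⟨a, rfl⟩
      refine ⟨⟨fibPt φ₀, hφO⟩, ?_⟩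
      exact congrArg φ₀.left (Subsingleton.elim (α := PrimeSpectrum Ω) _ a))
    have hr : r ≫ O.ι = φ₀.left := IsOpenImmersion.lift_fac _ _ _
    exact ⟨Over.homMk r ((Category.assoc r O.ι V₀.hom).symm.trans
      ((congrArg (· ≫ V₀.hom) hr).trans (Over.w φ₀))), Over.OverMorphism.ext hr⟩
  obtain ⟨hfin, hcl⟩ := finite_support hP V s
  have hNc : IsClosed ((agree P s 0)ᶜ \ {fibPt φ}) := by
    rw [← Set.biUnion_of_singleton ((agree P s 0)ᶜ \ {fibPt φ})]
    exact (hfin.subset Set.sdiff_subset).isClosed_biUnion fun v hv => hcl v hv.1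
  let N : V.left.Opens := ⟨((agree P s 0)ᶜ \ {fibPt φ})ᶜ, hNc.isOpen_compl⟩
  have hφN : fibPt φ ∈ N := fun hm => hm.2 rfl
  obtain ⟨ψ, hψ⟩ : ∃ ψ : fib ξ (EtSite.sub V N),
      (Scheme.pointSmallEtale ξ).fiber.map (EtSite.subHom V N) ψ = φ := by
    let r : Spec (CommRingCat.of Ω) ⟶ (EtSite.sub V N).left := IsOpenImmersion.lift N.ι φ.left (by
      rintro _ ⟨a, rfl⟩
      refine ⟨⟨fibPt φ, hφN⟩, ?_⟩
      exact congrArg φ.left (Subsingleton.elim (α := PrimeSpectrum Ω) _ a))
    have hr : r ≫ N.ι = φ.left := IsOpenImmersion.lift_fac _ _ _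
    exact ⟨Over.homMk r ((Category.assoc r N.ι V.hom).symm.trans
      ((congrArg (· ≫ V.hom) hr).trans (Over.w φ))), Over.OverMorphism.ext hr⟩
  let s' : P.obj.obj (op (EtSite.sub V N)) := P.obj.map (EtSite.subHom V N).op s
  let j := (compl x hx).ι
  have hzero : ((EtCoh.pullPushAdj j).unit.app P).hom.app (op (EtSite.sub V N)) s' = 0 := by
    rw [← map_zero (((EtCoh.pullPushAdj j).unit.app P).hom.app (op (EtSite.sub V N))).hom]
    refine eq_of_agree (U := (EtCoh.bc j).obj (EtSite.sub V N)) ((EtCoh.pull j).obj P) fun z =>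
      (mem_agree_unit j P s' 0 z).2 ?_
    let w := bcFst j (EtSite.sub V N) z
    have hw : (EtSite.sub V N).hom w ∈ compl x hx := by
      show (bcFst j (EtSite.sub V N) ≫ (EtSite.sub V N).hom) z ∈ compl x hx
      rw [pullback.condition, Scheme.Hom.comp_apply]
      exact (pullback.snd (EtSite.sub V N).hom j z).2
    rw [← map_zero (P.obj.map (EtSite.subHom V N).op).hom]
    refine (mem_agree_map P (EtSite.subHom V N) s 0 w).2 ?_
    by_contra hn
    have hwv : (EtSite.subHom V N).left w = fibPt φ := by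
      by_contra hne
      exact w.2 ⟨hn, hne⟩
    refine hw ?_
    show (EtSite.sub V N).hom w = x
    rw [← MorphismProperty.Over.w (EtSite.subHom V N), Scheme.Hom.comp_apply, ← h]
    refine (congrArg V.hom hwv).trans ?_
    let φl : Spec (CommRingCat.of Ω) ⟶ V.left := φ.left
    have hw' : φl ≫ V.hom = ξ := Over.w φ
    exact (Scheme.Hom.comp_apply φl V.hom default).symm.trans
      (congrArg (fun a : Spec (CommRingCat.of Ω) ⟶ X => a default) hw')
  obtain ⟨k, hk⟩ : ∃ k, (kernel.ι ((EtCoh.pullPushAdj j).unit.app P)).hom.app (op (EtSite.sub V N)) k = s' := by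
    have hex : (ShortComplex.mk _ _ (kernel.condition ((EtCoh.pullPushAdj j).unit.app P))).Exact :=
      ShortComplex.exact_of_f_is_kernel _ (kernelIsKernel _)
    haveI : (EtColim.secFun (EtSite.sub V N)).Additive := { }
    have hex' := hex.map_of_mono_of_preservesKernel (EtColim.secFun (EtSite.sub V N)) inferInstance inferInstance
    rw [ShortComplex.ab_exact_iff] at hex'
    exact hex' s' hzero
  refine ⟨germ ξ _ ψ k, ?_⟩
  rw [germ_nat, hk]
  show germ ξ P ψ (P.obj.map (EtSite.subHom V N).op s) = _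
  rw [germ_map, hψ, germ_map, hφ]

/-- The closed points. -/
abbrev Pts (X : Scheme.{u}) : Type u := {x : X // IsClosed ({x} : Set X)}

theorem isIso_desc [IsLocallyNoetherian X] :
    IsIso (Sigma.desc fun x : Pts X => kernel.ι ((EtCoh.pullPushAdj (compl x.1 x.2).ι).unit.app P)) := by
  rw [isIso_iff_stalk]
  intro Ω _ _ ξ
  haveI : PreservesColimitsOfShape (Discrete (Pts X)) (EtCoh.stalk ξ) := inferInstance
  let f := fun x : Pts X => suppAt P x.1 x.2
  let g := Sigma.desc fun x : Pts X => kernel.ι ((EtCoh.pullPushAdj (compl x.1 x.2).ι).unit.app P)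
  have hc := isColimitCofanMkObjOfIsColimit (EtCoh.stalk ξ) f _ (coproductIsCoproduct f)
  by_cases h : IsClosed ({ξ default} : Set X)
  · let a : Pts X := ⟨ξ default, h⟩
    haveI := isIso_inj_of_isZero _ hc a fun b hb =>
      isZero_stalk_suppAt P b.1 b.2 Ω ξ fun e => hb (Subtype.ext e.symm)
    haveI : IsIso ((EtCoh.stalk ξ).map (Sigma.ι f a)) := this
    have e : (EtCoh.stalk ξ).map (Sigma.ι f a) ≫ (EtCoh.stalk ξ).map g =
        (EtCoh.stalk ξ).map (kernel.ι ((EtCoh.pullPushAdj (compl a.1 a.2).ι).unit.app P)) := by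
      rw [← Functor.map_comp]; exact congrArg _ (Sigma.ι_desc _ a)
    have hb : Function.Bijective ((EtCoh.stalk ξ).map (kernel.ι ((EtCoh.pullPushAdj (compl a.1 a.2).ι).unit.app P))) :=
      ⟨(mono_iff_stalk _).1 inferInstance Ω ξ, surjective_stalk_suppAt _ h hP Ω ξ rfl⟩
    rw [← e] at hb
    exact (Function.Bijective.of_comp_iff _ (ConcreteCategory.bijective_of_isIso
      ((EtCoh.stalk ξ).map (Sigma.ι f a)))).1 hb
  · have h1 : IsZero ((EtCoh.stalk ξ).obj (∐ f)) := by
      rw [IsZero.iff_id_eq_zero]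
      exact Cofan.IsColimit.hom_ext hc _ _ fun b =>
        (isZero_stalk_suppAt P b.1 b.2 Ω ξ fun e => h (e ▸ b.2)).eq_of_src _ _
    have h1' := AddCommGrpCat.subsingleton_of_isZero h1
    have h2 := AddCommGrpCat.subsingleton_of_isZero (hP Ω ξ h)
    exact ⟨fun _ _ _ => @Subsingleton.elim _ h1' _ _, fun b => ⟨0, @Subsingleton.elim _ h2 _ _⟩⟩

omit hP

theorem isIso_unit_suppAt (hxc : IsClosedImmersion (X.fromSpecResidueField x)) :
    IsIso ((EtCoh.pullPushAdj (X.fromSpecResidueField x)).unit.app (suppAt P x hx)) := by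
  refine isIso_unit_integral (X.fromSpecResidueField x) _ ?_
  rintro y ⟨Ω, _, _, ξ, hξ, hne⟩
  show y ∈ Set.range (X.fromSpecResidueField x)
  rw [Scheme.range_fromSpecResidueField]
  have hy : ξ default = y := by
    have h1 : ξ default ∈ ({y} : Set X) := hξ ▸ Set.mem_range_self _
    exact h1
  by_contra hyx
  exact hne (isZero_stalk_suppAt P x hx Ω ξ (hy ▸ hyx))

theorem subsingleton_H_suppAt (hxs : IsSepClosed (X.residueField x)) (k : ℕ) (hk : 0 < k) :
    Subsingleton (EtCoh.H X (suppAt P x hx) k) := by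
  haveI := isClosed_singleton_iff_isClosedImmersion.mp hx
  haveI := isIso_unit_suppAt (P := P) x hx inferInstance
  haveI := hxs
  haveI : Subsingleton (EtCoh.H (Spec (X.residueField x)) ((EtCoh.pull (X.fromSpecResidueField x)).obj (suppAt P x hx)) k) :=
    EtPic3.subsingleton_H_sepClosed (X.residueField x) _ hk
  have hsub : Subsingleton (EtCoh.H X ((EtCoh.push (X.fromSpecResidueField x)).obj
      ((EtCoh.pull (X.fromSpecResidueField x)).obj (suppAt P x hx))) k) :=
    (FieldH25.bijective_HofPush_integral (X.fromSpecResidueField x) _ k).1.subsingleton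
  exact @Equiv.subsingleton _ _ ((EtCoh.HF X k).mapIso (asIso ((EtCoh.pullPushAdj (X.fromSpecResidueField x)).unit.app
    (suppAt P x hx)))).addCommGroupIsoToAddEquiv.toEquiv hsub

include hP

/-- Punctual sheaves are acyclic. -/
theorem subsingleton_H [IsLocallyNoetherian X] [CompactSpace X]
    (hsep : ∀ x : Pts X, IsSepClosed (X.residueField x.1)) (k : ℕ) (hk : 0 < k) :
    Subsingleton (EtCoh.H X P k) := by
  haveI : QuasiSeparatedSpace X := inferInstance
  haveI := isIso_desc hP
  haveI : IsFiltered (Finset (Discrete (Pts X))) := inferInstance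
  haveI := EtColim.preservesColimitsOfShape_HF_small X k (Finset (Discrete (Pts X)))
  let f := fun x : Pts X => suppAt P x.1 x.2
  haveI : PreservesColimit (Discrete.functor f) (EtCoh.HF X k) :=
    AcyclicSum8.preservesColimit_discrete (EtCoh.HF X k) f
  have hc := isColimitCofanMkObjOfIsColimit (EtCoh.HF X k) f _ (coproductIsCoproduct f)
  have hz : IsZero ((EtCoh.HF X k).obj (∐ f)) := by
    rw [IsZero.iff_id_eq_zero]
    exact Cofan.IsColimit.hom_ext hc _ _ fun b =>
      (@AddCommGrpCat.isZero_of_subsingleton _ (subsingleton_H_suppAt (P := P) b.1 b.2 (hsep b) k hk)).eq_of_src _ _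
  exact AddCommGrpCat.subsingleton_of_isZero (hz.of_iso ((EtCoh.HF X k).mapIso
    (asIso (Sigma.desc fun x : Pts X => kernel.ι ((EtCoh.pullPushAdj (compl x.1 x.2).ι).unit.app P))).symm))

omit hP

/-- A sheaf on the spectrum of a separably closed field without global sections is zero. -/
theorem isZero_of_top (κ : Type u) [Field κ] [IsSepClosed κ] (G : EtCoh.Ab (Spec (CommRingCat.of κ)))
    (h : IsZero (G.obj.obj (op (EtCoh.top (Spec (CommRingCat.of κ)))))) : IsZero G := by
  haveI : IsSepClosed (IsLocalRing.ResidueField κ) :=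
    EtPic3.isSepClosed_of_ringEquiv (RingEquiv.ofBijective (algebraMap κ (IsLocalRing.ResidueField κ))
      ⟨(algebraMap κ (IsLocalRing.ResidueField κ)).injective, Ideal.Quotient.mk_surjective⟩)
  haveI hs := AddCommGrpCat.subsingleton_of_isZero h
  rw [IsZero.iff_id_eq_zero]
  refine Sheaf.hom_ext (NatTrans.ext (funext fun U => AddCommGrpCat.hom_ext (AddMonoidHom.ext fun s => ?_)))
  show s = 0
  refine eq_of_agree G fun v => ?_
  obtain ⟨φ, hφ⟩ := Scheme.pointSmallEtaleFiberObjToPreimage_surjective (closedPt κ)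
    (s₀ := closedPt κ default) rfl U.unop ⟨v, Subsingleton.elim (α := PrimeSpectrum κ) _ _⟩
  obtain ⟨σ, hσ⟩ := exists_section κ φ
  refine ⟨_, σ, ⟨fibPt (topFib κ), ?_⟩, Subsingleton.elim (α := ((G.obj.obj (op (EtCoh.top (Spec (CommRingCat.of κ))))) : Type (u + 1))) _ _⟩
  exact (congrArg (fun a : fib (closedPt κ) U.unop => a.left (default : Spec (CommRingCat.of (IsLocalRing.ResidueField κ)))) hσ).trans
    (congrArg Subtype.val hφ)

include hP

/-- A punctual sheaf without global sections is zero. -/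
theorem isZero_of_hom_eq_zero [IsLocallyNoetherian X]
    (hsep : ∀ x : Pts X, IsSepClosed (X.residueField x.1))
    (h : ∀ a : EtCoh.const X ℤ ⟶ P, a = 0) : IsZero P := by
  haveI := isIso_desc hP
  let f := fun x : Pts X => suppAt P x.1 x.2
  let g := Sigma.desc fun x : Pts X => kernel.ι ((EtCoh.pullPushAdj (compl x.1 x.2).ι).unit.app P)
  refine IsZero.of_iso ?_ (asIso g).symm
  rw [IsZero.iff_id_eq_zero]
  refine Sigma.hom_ext _ _ fun b => IsZero.eq_of_src ?_ _ _
  haveI := isClosed_singleton_iff_isClosedImmersion.mp b.2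
  haveI := isIso_unit_suppAt (P := P) b.1 b.2 inferInstance
  haveI := hsep b
  let i := X.fromSpecResidueField b.1
  refine IsZero.of_iso ((EtCoh.push i).map_isZero (isZero_of_top (X.residueField b.1) _
    (@AddCommGrpCat.isZero_of_subsingleton _ ?_))) (asIso ((EtCoh.pullPushAdj i).unit.app (f b)))
  have hhom : ∀ m : EtCoh.const (Spec (X.residueField b.1)) ℤ ⟶ (EtCoh.pull i).obj (f b), m = 0 := by
    intro m
    haveI : (EtCoh.pull i).Additive := (EtCoh.pullPushAdj i).left_adjoint_additive
    let m' := (EtCoh.pullPushAdj i).homEquiv _ _ ((EtCore.pullConst i ℤ).hom ≫ m)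
    have h1 : m' ≫ inv ((EtCoh.pullPushAdj i).unit.app (f b)) = 0 := by
      rw [← cancel_mono (Sigma.ι f b), zero_comp, ← cancel_mono g, zero_comp]
      exact h _
    have h2 : m' = 0 := by
      rwa [IsIso.comp_inv_eq, zero_comp] at h1
    have h3 : (EtCore.pullConst i ℤ).hom ≫ m = 0 := by
      refine ((EtCoh.pullPushAdj i).homEquiv _ _).injective (h2.trans ?_)
      rw [Adjunction.homEquiv_unit, Functor.map_zero, comp_zero]
    exact (cancel_epi (EtCore.pullConst i ℤ).hom).1 (h3.trans comp_zero.symm)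
  haveI : Subsingleton (EtCoh.const (Spec (X.residueField b.1)) ℤ ⟶ (EtCoh.pull i).obj (f b)) :=
    ⟨fun m n => (hhom m).trans (hhom n).symm⟩
  exact (StrictLim24.topSecEquiv _ _).toEquiv.symm.subsingleton

end Groth.Agent.Punctual24
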