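import Groth.Prelude.Def_CohCx
import Groth.Prelude.Def_DCoh2
import Groth.Agent.Lib.Punctual24.Basic
import Groth.Agent.Lib.SiteRlim16.Acyclic
import Groth.Agent.Lib.SiteRlim16.Instances
import Groth.Agent.Lib.SiteRlim16.AbClasses
import Groth.Agent.Lib.KInj.Derived

/-!
# Complexes with cohomology sheaves concentrated at closed points
-/

set_option autoImplicit false
set_option backward.isDefEq.respectTransparency false
set_option backward.isDefEq.respectTransparency.types false

universe u

open CategoryTheory CategoryTheory.Limits Opposite AlgebraicGeometry CategoryTheory.Abelian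

attribute [local instance] HasDerivedCategory.standard

namespace Groth.Agent.Punctual24

variable {X : Scheme.{u}}

/-- The generators of the étale topos indexed by qcqs étale schemes. -/
noncomputable abbrev gen (X : Scheme.{u}) : EtColim.QCSite X ⥤ EtCoh.Ab X :=
  SiteRlim.genAb (EtColim.qcTop X) ⋙ (EtColim.res X).inv

/-- They represent sections. -/
noncomputable def genEquiv (U : EtColim.QCSite X) (M : EtCoh.Ab X) :
    ((gen X).obj U ⟶ M) ≃ ((EtColim.res X).obj M).obj.obj (op U) :=
  (((EtColim.res X).asEquivalence.symm.toAdjunction.homEquiv ((SiteRlim.genAb (EtColim.qcTop X)).obj U) M)).trans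
    (SiteCoh.secEquiv U ((EtColim.res X).obj M))

theorem genEquiv_pre {U V : EtColim.QCSite X} (g : V ⟶ U) (M : EtCoh.Ab X) (φ : (gen X).obj U ⟶ M) :
    genEquiv V M ((gen X).map g ≫ φ) = ((EtColim.res X).obj M).obj.map g.op (genEquiv U M φ) := by
  simp only [genEquiv, Equiv.trans_apply]
  erw [Adjunction.homEquiv_naturality_left]
  exact SiteRlim.secEquiv_pre g _ _

theorem genEquiv_post {U : EtColim.QCSite X} {M N : EtCoh.Ab X} (φ : (gen X).obj U ⟶ M) (f : M ⟶ N) :
    genEquiv U N (φ ≫ f) = ((EtColim.res X).map f).hom.app (op U) (genEquiv U M φ) := by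
  simp only [genEquiv, Equiv.trans_apply]
  erw [Adjunction.homEquiv_naturality_right]
  exact SiteCoh.secEquiv_comp _ _ _

theorem localGen_gen (X : Scheme.{u}) : SiteRlim.LocalGen (EtColim.qcTop X) (gen X) := by
  haveI : (EtColim.res X).Additive := { }
  exact SiteRlim.localGen_of_sections (EtColim.res X) genEquiv genEquiv_pre genEquiv_post

/-- Two objects corepresenting the same functor are isomorphic. -/
theorem nonempty_iso_of_corep {A : Type*} [Category A] {Z Z' : A} {S : A → Type*}
    (act : ∀ {M N : A}, (M ⟶ N) → S M → S N) (e : ∀ M, (Z ⟶ M) ≃ S M) (e' : ∀ M, (Z' ⟶ M) ≃ S M)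
    (h : ∀ {M N : A} (φ : Z ⟶ M) (f : M ⟶ N), e N (φ ≫ f) = act f (e M φ))
    (h' : ∀ {M N : A} (φ : Z' ⟶ M) (f : M ⟶ N), e' N (φ ≫ f) = act f (e' M φ)) : Nonempty (Z ≅ Z') := by
  refine ⟨{ hom := (e Z').symm (e' Z' (𝟙 Z')), inv := (e' Z).symm (e Z (𝟙 Z)), hom_inv_id := ?_, inv_hom_id := ?_ }⟩
  · refine (e Z).injective ?_
    rw [h, Equiv.apply_symm_apply, ← h', Category.id_comp, Equiv.apply_symm_apply]
  · refine (e' Z').injective ?_
    rw [h', Equiv.apply_symm_apply, ← h, Category.id_comp, Equiv.apply_symm_apply]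

/-- Maps out of an extension by zero are sections on the small site. -/
noncomputable def zEquiv (U : EtColim.QCSite X) [AlgebraicGeometry.Etale ((EtColim.incl X).obj U).hom]
    (M : EtCoh.Ab X) :
    (EtStalk.zExt ((EtColim.incl X).obj U).hom ⟶ M) ≃ ((EtColim.res X).obj M).obj.obj (op U) :=
  ((EtColim.zExtSectIso ((EtColim.incl X).obj U)).app M).addCommGroupIsoToAddEquiv.toEquiv

theorem res_map_app (U : EtColim.QCSite X) {M N : EtCoh.Ab X} (f : M ⟶ N) :
    ((EtColim.res X).map f).hom.app (op U) = f.hom.app (op ((EtColim.incl X).obj U)) := rfl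

theorem zExtSectIso_post (W : X.Etale) [AlgebraicGeometry.Etale W.hom]
    {M N : EtCoh.Ab X} (φ : EtStalk.zExt W.hom ⟶ M) (f : M ⟶ N) :
    ((EtColim.zExtSectIso W).app N).hom (φ ≫ f) =
      f.hom.app (op W) (((EtColim.zExtSectIso W).app M).hom φ) := by
  have h := ConcreteCategory.congr_hom ((EtColim.zExtSectIso W).hom.naturality f) φ
  simp only [ConcreteCategory.comp_apply] at h
  exact h

theorem zEquiv_post (U : EtColim.QCSite X) [AlgebraicGeometry.Etale ((EtColim.incl X).obj U).hom]
    {M N : EtCoh.Ab X} (φ : EtStalk.zExt ((EtColim.incl X).obj U).hom ⟶ M) (f : M ⟶ N) :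
    zEquiv U N (φ ≫ f) = ((EtColim.res X).map f).hom.app (op U) (zEquiv U M φ) := by
  rw [res_map_app]
  exact zExtSectIso_post ((EtColim.incl X).obj U) φ f

/-- The generators are extensions by zero. -/
theorem nonempty_gen_iso (U : EtColim.QCSite X) [AlgebraicGeometry.Etale ((EtColim.incl X).obj U).hom] :
    Nonempty ((gen X).obj U ≅ EtStalk.zExt ((EtColim.incl X).obj U).hom) :=
  nonempty_iso_of_corep.{u + 2, u + 1, u + 1} (A := EtCoh.Ab X)
    (S := fun M => (((EtColim.res X).obj M).obj.obj (op U) : Type (u + 1)))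
    (fun {M N} f => ((EtColim.res X).map f).hom.app (op U)) (fun M => genEquiv U M) (fun M => zEquiv U M)
    (fun φ f => genEquiv_post φ f) (fun φ f => zEquiv_post U φ f)

variable {K : Type u} [Field K] [IsSepClosed K] (a : X ⟶ Spec (CommRingCat.of K)) [LocallyOfFiniteType a]
include a

theorem isLocallyNoetherian : IsLocallyNoetherian X :=
  LocallyOfFiniteType.isLocallyNoetherian a

theorem subsingleton_H_pull (W : X.Etale) (hW : CompactSpace W.left) {P : EtCoh.Ab X} (hP : Punctual P) (k : ℕ)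
    (hk : 0 < k) : Subsingleton (EtCoh.H ((𝟭 Scheme).obj W.left) ((EtCoh.pull W.hom).obj P) k) := by
  haveI : AlgebraicGeometry.Etale W.hom := W.prop
  let b : (𝟭 Scheme).obj W.left ⟶ Spec (CommRingCat.of K) := W.hom ≫ a
  haveI : LocallyOfFiniteType b := inferInstanceAs (LocallyOfFiniteType (W.hom ≫ a))
  haveI := isLocallyNoetherian b
  haveI : CompactSpace ((𝟭 Scheme).obj W.left) := hW
  refine subsingleton_H (fun Ω _ _ ξ hξ => IsZero.of_iso (hP Ω (ξ ≫ W.hom) fun hc => hξ ?_)
    (asIso (EtStalk.stalkPull W.hom ξ P)).symm)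
    (fun w => CurveConn25.isSepClosed_residueField b w.1 w.2) k hk
  rw [← closure_eq_iff_isClosed]
  refine Set.Subset.antisymm (fun w hw => ?_) subset_closure
  have hs : ξ default ⤳ w := specializes_iff_mem_closure.2 hw
  have he : W.hom w = W.hom (ξ default) := by
    have h1 := (hs.map W.hom.continuous).mem_closure
    have hc' : IsClosed ({W.hom (ξ default)} : Set X) := Scheme.Hom.comp_apply ξ W.hom default ▸ hc
    exact Set.mem_singleton_iff.1 (hc'.closure_eq ▸ h1)
  exact (NormSep24.eq_of_specializes_of_fibre (g := W.hom) hs he.symm).symm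

theorem isZero_iff_subsingleton [QuasiCompact a] (Q : DCoh.DEt X) (hQ : ∀ i, Punctual (DCoh.HDEt Q i)) :
    IsZero Q ↔ ∀ i : ℤ, Subsingleton
      ((DerivedCategory.singleFunctor (EtCoh.Ab X) 0).obj (EtCoh.const X ℤ) ⟶ (shiftFunctor (DCoh.DEt X) i).obj Q) := by
  refine ⟨fun h i => ⟨fun f g => ((shiftFunctor _ i).map_isZero h).eq_of_tgt f g⟩, fun h => ?_⟩
  haveI := isLocallyNoetherian a
  haveI : CompactSpace X := QuasiCompact.compactSpace_of_compactSpace a
  choose I hI he using fun n => KInjLib.exists_iso_kInjective (CohCx.truncTower Q n)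
  haveI : HasProduct (CohCx.truncTower Q) :=
    KInjLib.hasProduct_derivedCategory _ I hI fun n => (he n).some
  have hgen : ∀ (U : EtColim.QCSite X) (q : ℤ) (k : ℕ), 0 < k →
      Subsingleton (Ext.{u + 1} ((gen X).obj U) (DCoh.HDEt Q q) k) := by
    intro U q k hk
    let W := (EtColim.incl X).obj U
    haveI : AlgebraicGeometry.Etale W.hom := W.prop
    have hH := subsingleton_H_pull a W U.objDown.property.1 (hQ q) k hk
    haveI := @Equiv.subsingleton _ _ (EtStalk.extCohEquiv W.hom (DCoh.HDEt Q q) k).toEquiv hH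
    obtain ⟨e⟩ := nonempty_gen_iso U
    exact ((((extFunctor.{u + 1} k).mapIso e.op).app (DCoh.HDEt Q q)).addCommGroupIsoToAddEquiv.toEquiv.subsingleton_congr).1 ‹_›
  have hlim := SiteRlim.isRlimVia_truncTower.{_, u + 1} (localGen_gen X) Q Set.univ
    (fun U => ⟨⊤, GrothendieckTopology.top_mem _ _, fun V g _ => ⟨V, 𝟙 V, g, trivial, Category.id_comp g⟩⟩)
    fun m V _ => ⟨(-m).toNat, fun T hT => ⟨T, hT, fun W g hg => ⟨W, 𝟙 W, g, hg, Category.id_comp g,
      SiteRlim.stable_truncTower.{_, u + 1} Q m _ fun n hn k hk₁ hk₂ => hgen W _ k (by omega)⟩⟩⟩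
  have hb := fun m => SiteRlim.bijective_θ_of_isRlimVia.{_, u + 1} (EtCoh.const X ℤ) m Q hlim fun k q hk =>
    subsingleton_H (hQ q) (fun x => CurveConn25.isSepClosed_residueField a x.1 x.2) k (by omega)
  have hz : ∀ m, IsZero (DCoh.HDEt Q m) := fun m => by
    refine isZero_of_hom_eq_zero (hQ m) (fun x => CurveConn25.isSepClosed_residueField a x.1 x.2) fun s => ?_
    obtain ⟨f, rfl⟩ := (hb m).2 s
    haveI := h m
    haveI := (SiteRlim.bijective_shiftTr m (SiteRlim.singleShift (EtCoh.const X ℤ) m) Q).1.subsingleton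
    rw [Subsingleton.elim f 0]
    simp [SiteRlim.θ]
  rw [IsZero.iff_id_eq_zero]
  have : IsIso (0 : Q ⟶ Q) := by
    rw [DerivedCategory.isIso_iff]
    exact fun m => ⟨0, (hz m).eq_of_src _ _, (hz m).eq_of_src _ _⟩
  exact (cancel_mono (0 : Q ⟶ Q)).1 (by simp)

end Groth.Agent.Punctual24
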